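import Cfsg.Agent.FusionSimple.Basic
import Cfsg.Agent.FusionSys.Saturation
import Cfsg.Agent.FusionSys.Realized
import Cfsg.Agent.PGroup.Basic
import Mathlib.GroupTheory.Perm.Cycle.Type
import Mathlib.GroupTheory.SpecificGroups.Alternating

/-!
The 2-fusion system of a group with an involution centraliser `2^{1+4}.A₅` with `Q` not weakly
closed (shape of the centraliser in the second and third Janko groups) is simple.
-/

set_option autoImplicit false

open Cfsg Cfsg.FusionSystem Cfsg.Agent.FusionSys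

namespace Cfsg.Agent.FusionSimple

variable {G : Type*} [Group G]

/-- `C(t)` is an extension of an extraspecial `Q` of order 32 by `A₅`, not centralising `Q / ⟨t⟩`,
and `Q` contains a further conjugate of `t`. -/
structure ExtraFive (t : G) (Q : Subgroup G) : Prop where
  mem : t ∈ Q
  ne_one : t ≠ 1
  card : Nat.card Q = 32
  le_cent : Q ≤ Subgroup.centralizer {t}
  center : ∀ q ∈ Q, (∀ p ∈ Q, q * p = p * q) → q = 1 ∨ q = t
  comm : ∀ p ∈ Q, ∀ q ∈ Q, p * q * p⁻¹ * q⁻¹ = 1 ∨ p * q * p⁻¹ * q⁻¹ = t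
  quot : ∃ f : ↥(Subgroup.centralizer {t}) →* Equiv.Perm (Fin 5),
    f.range = alternatingGroup (Fin 5) ∧ ∀ c, f c = 1 ↔ (c : G) ∈ Q
  outer : ∃ c q : G, c * t = t * c ∧ q ∈ Q ∧ c * q * c⁻¹ ≠ q ∧ c * q * c⁻¹ ≠ q * t
  other : ∃ g : G, g * t * g⁻¹ ∈ Q ∧ g * t * g⁻¹ ≠ t

theorem five_involutions_conj : ∀ a b : Equiv.Perm (Fin 5), Equiv.Perm.sign a = 1 →
    Equiv.Perm.sign b = 1 → a * a = 1 → b * b = 1 → a ≠ 1 → b ≠ 1 →
    ∃ c : Equiv.Perm (Fin 5), Equiv.Perm.sign c = 1 ∧ c * a * c⁻¹ = b := by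
  decide +kernel

theorem five_orders : ∀ a : Equiv.Perm (Fin 5), Equiv.Perm.sign a = 1 →
    a ^ 2 = 1 ∨ a ^ 3 = 1 ∨ a ^ 5 = 1 := by
  decide +kernel

namespace ExtraFive

variable {t : G} {Q : Subgroup G}

theorem isPGroup (h : ExtraFive t Q) : IsPGroup 2 Q :=
  IsPGroup.of_card (n := 5) (by rw [h.card]; norm_num)

theorem sq (h : ExtraFive t Q) : t * t = 1 := by
  rcases h.center (t * t) (mul_mem h.mem h.mem) (fun p hp => by
    have e : p * t = t * p := Subgroup.mem_centralizer_singleton_iff.1 (h.le_cent hp)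
    rw [mul_assoc, ← e, ← mul_assoc, ← e, mul_assoc]) with e | e
  · exact e
  · exact absurd (mul_eq_left.1 e) h.ne_one

theorem commute (h : ExtraFive t Q) {p : G} (hp : p ∈ Q) : p * t = t * p :=
  Subgroup.mem_centralizer_singleton_iff.1 (h.le_cent hp)

theorem conj_mem_Q (h : ExtraFive t Q) {c q : G} (hc : c * t = t * c) (hq : q ∈ Q) :
    c * q * c⁻¹ ∈ Q := by
  obtain ⟨f, -, hf⟩ := h.quot
  let c' : ↥(Subgroup.centralizer {t}) := ⟨c, Subgroup.mem_centralizer_singleton_iff.2 hc⟩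
  let q' : ↥(Subgroup.centralizer {t}) := ⟨q, h.le_cent hq⟩
  refine (hf (c' * q' * c'⁻¹)).1 ?_
  rw [map_mul, map_mul, (hf q').2 hq, mul_one, map_inv, mul_inv_cancel]

/-- the centraliser of `Q` in `C(t)` lies in `Q` -/
theorem self_centralizing (h : ExtraFive t Q) {x : G} (hx : x * t = t * x)
    (hxQ : ∀ q ∈ Q, x * q = q * x) : x ∈ Q := by
  obtain ⟨f, hr, hf⟩ := h.quot
  let Z : Subgroup ↥(Subgroup.centralizer {t}) :=
    (Subgroup.centralizer (Q : Set G)).subgroupOf _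
  have hZ : ∀ z : ↥(Subgroup.centralizer {t}), z ∈ Z ↔ ∀ q ∈ Q, q * (z : G) = z * q :=
    fun z => Iff.rfl
  have : Z.Normal := ⟨fun z hz c => (hZ _).2 fun q hq => by
    have hc : (c : G) * t = t * c := Subgroup.mem_centralizer_singleton_iff.1 c.2
    have hc' : (c : G)⁻¹ * t = t * (c : G)⁻¹ := by
      rw [inv_mul_eq_iff_eq_mul, ← mul_assoc, hc, mul_inv_cancel_right]
    have e := (hZ z).1 hz _ (h.conj_mem_Q hc' hq)
    rw [inv_inv] at e
    show q * ((c : G) * z * (c : G)⁻¹) = (c : G) * z * (c : G)⁻¹ * q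
    calc q * ((c : G) * z * (c : G)⁻¹) = c * ((c : G)⁻¹ * q * c * z) * (c : G)⁻¹ := by group
      _ = _ := by rw [e]; group⟩
  let g : ↥(Subgroup.centralizer {t}) →* ↥(alternatingGroup (Fin 5)) :=
    f.codRestrict _ fun c => hr ▸ ⟨c, rfl⟩
  have hg : Function.Surjective g := fun a => by
    obtain ⟨c, hc⟩ : (a : Equiv.Perm (Fin 5)) ∈ f.range := hr.symm ▸ a.2
    exact ⟨c, Subtype.ext hc⟩
  have : (Z.map g).Normal := Subgroup.Normal.map inferInstance g hg
  have : IsSimpleGroup ↥(alternatingGroup (Fin 5)) := alternatingGroup.isSimpleGroup (by simp)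
  have hmem : (⟨x, Subgroup.mem_centralizer_singleton_iff.2 hx⟩ : ↥(Subgroup.centralizer {t})) ∈ Z :=
    (hZ _).2 fun q hq => (hxQ q hq).symm
  rcases Subgroup.Normal.eq_bot_or_eq_top (H := Z.map g) inferInstance with e | e
  · have : g ⟨x, _⟩ = 1 := Subgroup.mem_bot.1 (e ▸ Subgroup.mem_map_of_mem g hmem)
    exact (hf _).1 (congrArg Subtype.val this)
  · exfalso
    obtain ⟨c, q, hc, hq, h1, h2⟩ := h.outer
    let c' : ↥(Subgroup.centralizer {t}) := ⟨c, Subgroup.mem_centralizer_singleton_iff.2 hc⟩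
    obtain ⟨z, hz, hzc⟩ : g c' ∈ Z.map g := e ▸ Subgroup.mem_top _
    have hq0 : ((c' * z⁻¹ : ↥(Subgroup.centralizer {t})) : G) ∈ Q := (hf _).1 (by
      have := congrArg Subtype.val hzc
      show f (c' * z⁻¹) = 1
      rw [map_mul, map_inv, show f z = f c' from this, mul_inv_cancel])
    set q0 : G := ((c' * z⁻¹ : ↥(Subgroup.centralizer {t})) : G) with hq0def
    have hce : c = q0 * z := by rw [hq0def]; simp [c']
    have hzq : (z : G) * q * (z : G)⁻¹ = q := by
      rw [← (hZ z).1 hz q hq, mul_inv_cancel_right]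
    have hcq : c * q * c⁻¹ = q0 * q * q0⁻¹ := by
      calc c * q * c⁻¹ = q0 * ((z : G) * q * (z : G)⁻¹) * q0⁻¹ := by rw [hce]; group
        _ = _ := by rw [hzq]
    rcases h.comm q0 hq0 q hq with r | r
    · exact h1 (by rw [hcq]; exact mul_inv_eq_one.1 r)
    · exact h2 (by rw [hcq, mul_inv_eq_iff_eq_mul.1 r, ← h.commute hq])

variable [Finite G] {S : Sylow 2 G}

set_option linter.unusedSectionVars false

theorem Q_le (h : ExtraFive t Q) (hS : (S : Subgroup G) ≤ Subgroup.centralizer {t}) :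
    Q ≤ (S : Subgroup G) := by
  have hN : (S : Subgroup G) ≤ Subgroup.normalizer (Q : Set G) := by
    intro s hs
    have hs' : s * t = t * s := Subgroup.mem_centralizer_singleton_iff.1 (hS hs)
    have hs'' : s⁻¹ * t = t * s⁻¹ := by
      rw [inv_mul_eq_iff_eq_mul, ← mul_assoc, hs', mul_inv_cancel_right]
    refine Subgroup.mem_normalizer_iff.2 fun q => ⟨h.conj_mem_Q hs', fun hq => ?_⟩
    have e := h.conj_mem_Q hs'' hq
    simpa [mul_assoc] using e
  have hp : IsPGroup 2 ↥((S : Subgroup G) ⊔ Q) :=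
    IsPGroup.to_sup_of_normal_right' S.2 h.isPGroup hN
  exact le_sup_right.trans (S.3 hp le_sup_left).le

theorem center_S (h : ExtraFive t Q) (hS : (S : Subgroup G) ≤ Subgroup.centralizer {t}) {x : G}
    (hx : x ∈ (S : Subgroup G)) (hc : ∀ s ∈ (S : Subgroup G), x * s = s * x) : x = 1 ∨ x = t :=
  h.center x (h.self_centralizing (Subgroup.mem_centralizer_singleton_iff.1 (hS hx))
    fun q hq => hc q (h.Q_le hS hq)) fun q hq => hc q (h.Q_le hS hq)

theorem t_mem_S (h : ExtraFive t Q) (hS : (S : Subgroup G) ≤ Subgroup.centralizer {t}) :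
    t ∈ (S : Subgroup G) :=
  h.Q_le hS h.mem

/-- the normaliser of `S` centralises `t` -/
theorem normalizer_le (h : ExtraFive t Q) (hS : (S : Subgroup G) ≤ Subgroup.centralizer {t}) {m : G}
    (hm : ∀ s ∈ (S : Subgroup G), m * s * m⁻¹ ∈ (S : Subgroup G))
    (hm' : ∀ s ∈ (S : Subgroup G), m⁻¹ * s * m ∈ (S : Subgroup G)) : m * t = t * m := by
  rcases h.center_S hS (hm t (h.t_mem_S hS)) (fun s hs => by
    have e : (m⁻¹ * s * m) * t = t * (m⁻¹ * s * m) :=
      Subgroup.mem_centralizer_singleton_iff.1 (hS (hm' s hs))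
    calc m * t * m⁻¹ * s = m * (t * (m⁻¹ * s * m)) * m⁻¹ := by group
      _ = s * (m * t * m⁻¹) := by rw [← e]; group) with e | e
  · exact absurd (conj_eq_one_iff.1 e) h.ne_one
  · exact mul_inv_eq_iff_eq_mul.1 e

variable {T : Subgroup G}

theorem mem_T (hT : (groupFusionSystem (S : Subgroup G)).StronglyClosed T) {x g : G} (hx : x ∈ T)
    (hg : g * x * g⁻¹ ∈ (S : Subgroup G)) : g * x * g⁻¹ ∈ T := by
  have hle : Subgroup.zpowers x ≤ T := Subgroup.zpowers_le.2 hx
  exact hT.2 _ hle (conjHom (Subgroup.zpowers x) g) ⟨hle.trans hT.1, fun y => by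
    obtain ⟨k, hk⟩ := y.2
    show g * (y : G) * g⁻¹ ∈ (S : Subgroup G)
    rw [← hk, ← conj_zpow]
    exact zpow_mem hg k, g, fun y => rfl⟩ ⟨x, Subgroup.mem_zpowers x⟩

theorem t_mem_T (h : ExtraFive t Q) (hS : (S : Subgroup G) ≤ Subgroup.centralizer {t})
    (hT : (groupFusionSystem (S : Subgroup G)).StronglyClosed T) (hne : T ≠ ⊥) : t ∈ T := by
  have : Fact (Nat.Prime 2) := ⟨Nat.prime_two⟩
  have : (T.subgroupOf (S : Subgroup G)).Normal := ⟨fun x hx s =>
    Subgroup.mem_subgroupOf.2 (mem_T hT (Subgroup.mem_subgroupOf.1 hx)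
      (mul_mem (mul_mem s.2 x.2) (InvMemClass.inv_mem s.2)))⟩
  have hb : T.subgroupOf (S : Subgroup G) ≠ ⊥ := fun e => hne (by
    rw [Subgroup.subgroupOf_eq_bot] at e
    exact e.eq_bot_of_le hT.1)
  obtain ⟨⟨x, hxS⟩, hx, hx1⟩ := Subgroup.nontrivial_iff_exists_ne_one _ |>.1
    ((Subgroup.nontrivial_iff_ne_bot _).2 (Cfsg.Agent.PGroup.inf_center_ne_bot S.2 _ hb))
  obtain ⟨hxT, hxc⟩ := hx
  rcases h.center_S hS hxS (fun s hs =>
      congrArg Subtype.val ((Subgroup.mem_center_iff.1 hxc ⟨s, hs⟩).symm)) with e | e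
  · exact absurd (Subtype.ext e) hx1
  · exact e ▸ Subgroup.mem_subgroupOf.1 hxT

theorem exists_five (h : ExtraFive t Q) :
    ∃ x : G, x * t = t * x ∧ x ∉ Q ∧ x ^ 5 = 1 := by
  obtain ⟨f, hr, hf⟩ := h.quot
  have : Fact (Nat.Prime 5) := ⟨by norm_num⟩
  have h60 : Nat.card ↥f.range = 60 := by
    rw [hr, Nat.card_eq_fintype_card]; decide +kernel
  have hd : 5 ∣ Nat.card ↥(Subgroup.centralizer {t}) := by
    have := Subgroup.card_mul_index f.ker
    rw [Subgroup.index_ker, h60] at this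
    rw [← this]
    exact Dvd.dvd.mul_left (by norm_num) _
  obtain ⟨x, hx⟩ := exists_prime_orderOf_dvd_card' 5 hd
  refine ⟨x, Subgroup.mem_centralizer_singleton_iff.1 x.2, fun hxQ => ?_, ?_⟩
  · have hd2 : orderOf (⟨(x : G), hxQ⟩ : Q) ∣ 32 := h.card ▸ orderOf_dvd_natCard _
    rw [Subgroup.orderOf_mk, Subgroup.orderOf_coe, hx] at hd2
    norm_num at hd2
  · have := pow_orderOf_eq_one x
    rw [hx] at this
    exact_mod_cast congrArg Subtype.val this

theorem Q_le_T (h : ExtraFive t Q) (hS : (S : Subgroup G) ≤ Subgroup.centralizer {t})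
    (hT : (groupFusionSystem (S : Subgroup G)).StronglyClosed T) (hne : T ≠ ⊥) : Q ≤ T := by
  classical
  have : Fact (Nat.Prime 5) := ⟨by norm_num⟩
  have : Fact (Nat.Prime 2) := ⟨Nat.prime_two⟩
  have htT := h.t_mem_T hS hT hne
  obtain ⟨g, huQ, hut⟩ := h.other
  set W := T ⊓ Q
  have huW : g * t * g⁻¹ ∈ W := ⟨mem_T hT htT (h.Q_le hS huQ), huQ⟩
  obtain ⟨x, hxt, hxQ, hx5⟩ := h.exists_five
  have hW : ∀ w ∈ W, x * w * x⁻¹ ∈ W := fun w hw =>
    ⟨mem_T hT hw.1 (h.Q_le hS (h.conj_mem_Q hxt hw.2)), h.conj_mem_Q hxt hw.2⟩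
  let σ : Function.End ↥W := fun w => ⟨x * w * x⁻¹, hW _ w.2⟩
  have hit : ∀ (n : ℕ) (w : ↥W), ((σ^[n] w : ↥W) : G) = x ^ n * w * (x ^ n)⁻¹ := by
    intro n
    induction n with
    | zero => intro w; show (w : G) = _; simp
    | succ n ih =>
      intro w
      rw [Function.iterate_succ_apply, ih, pow_succ]
      show x ^ n * (x * (w : G) * x⁻¹) * (x ^ n)⁻¹ = _
      group
  have hσ : σ ^ 5 ^ 1 = 1 := funext fun w => Subtype.ext (by
    show ((σ ^ 5 ^ 1 : Function.End ↥W) w : G) = w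
    rw [show ((σ ^ 5 ^ 1 : Function.End ↥W) w) = σ^[5 ^ 1] w from rfl, hit, pow_one, hx5]
    simp)
  have : Fintype ↥W := Fintype.ofFinite _
  have hmod : Fintype.card ↥W ≡ Fintype.card (Function.fixedPoints σ) [MOD 5] :=
    Equiv.Perm.card_fixedPoints_modEq hσ
  rw [← Nat.card_eq_fintype_card, ← Nat.card_eq_fintype_card] at hmod
  set V := W ⊓ Subgroup.centralizer {x}
  have hfix : Nat.card (Function.fixedPoints σ) = Nat.card V := by
    refine Nat.card_congr
      { toFun := fun w => ⟨(w.1 : G), w.1.2, Subgroup.mem_centralizer_singleton_iff.2 ?_⟩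
        invFun := fun v => ⟨⟨v.1, v.2.1⟩, Subtype.ext ?_⟩
        left_inv := fun w => rfl
        right_inv := fun v => rfl }
    · have e : x * (w.1 : G) * x⁻¹ = w.1 := congrArg Subtype.val w.2
      exact (mul_inv_eq_iff_eq_mul.1 e).symm
    · exact mul_inv_eq_iff_eq_mul.2 (Subgroup.mem_centralizer_singleton_iff.1 v.2.2).symm
  rw [hfix] at hmod
  obtain ⟨m, hm⟩ := IsPGroup.iff_card.1 (h.isPGroup.to_le (inf_le_right : W ≤ Q))
  obtain ⟨k, hk⟩ := IsPGroup.iff_card.1
    (h.isPGroup.to_le ((inf_le_left : V ≤ W).trans inf_le_right))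
  have hkm : k ≤ m := by
    have := Subgroup.card_le_of_le (inf_le_left : V ≤ W)
    rw [hk, hm] at this
    exact (Nat.pow_le_pow_iff_right (by norm_num)).1 this
  have hm5 : m ≤ 5 := by
    have := Subgroup.card_le_of_le (inf_le_right : W ≤ Q)
    rw [hm, h.card] at this
    exact (Nat.pow_le_pow_iff_right (a := 2) (by norm_num) (n := m) (m := 5)).1 this
  have htV : t ∈ V := ⟨⟨htT, h.mem⟩, Subgroup.mem_centralizer_singleton_iff.2 hxt.symm⟩
  have hk1 : k ≠ 0 := fun e => by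
    rw [e, pow_zero] at hk
    have := Subgroup.eq_bot_of_card_eq _ hk
    exact h.ne_one (Subgroup.mem_bot.1 (this ▸ htV))
  rw [hm, hk] at hmod
  by_cases hWV : W = V
  · exfalso
    have hux : g * t * g⁻¹ ∈ Subgroup.centralizer {x} := (hWV ▸ huW : _ ∈ V).2
    -- so `C_Q(x)` has order at least 4, and must be everything
    let σ' : Function.End ↥Q := fun w => ⟨x * w * x⁻¹, h.conj_mem_Q hxt w.2⟩
    have hit' : ∀ (n : ℕ) (w : ↥Q), ((σ'^[n] w : ↥Q) : G) = x ^ n * w * (x ^ n)⁻¹ := by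
      intro n
      induction n with
      | zero => intro w; show (w : G) = _; simp
      | succ n ih =>
        intro w
        rw [Function.iterate_succ_apply, ih, pow_succ]
        show x ^ n * (x * (w : G) * x⁻¹) * (x ^ n)⁻¹ = _
        group
    have hσ' : σ' ^ 5 ^ 1 = 1 := funext fun w => Subtype.ext (by
      show ((σ' ^ 5 ^ 1 : Function.End ↥Q) w : G) = w
      rw [show ((σ' ^ 5 ^ 1 : Function.End ↥Q) w) = σ'^[5 ^ 1] w from rfl, hit', pow_one, hx5]
      simp)
    have : Fintype ↥Q := Fintype.ofFinite _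
    have hmod' : Fintype.card ↥Q ≡ Fintype.card (Function.fixedPoints σ') [MOD 5] :=
      Equiv.Perm.card_fixedPoints_modEq hσ'
    rw [← Nat.card_eq_fintype_card, ← Nat.card_eq_fintype_card] at hmod'
    set V' := Q ⊓ Subgroup.centralizer {x}
    have hfix' : Nat.card (Function.fixedPoints σ') = Nat.card V' := by
      refine Nat.card_congr
        { toFun := fun w => ⟨(w.1 : G), w.1.2, Subgroup.mem_centralizer_singleton_iff.2 ?_⟩
          invFun := fun v => ⟨⟨v.1, v.2.1⟩, Subtype.ext ?_⟩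
          left_inv := fun w => rfl
          right_inv := fun v => rfl }
      · have e : x * (w.1 : G) * x⁻¹ = w.1 := congrArg Subtype.val w.2
        exact (mul_inv_eq_iff_eq_mul.1 e).symm
      · exact mul_inv_eq_iff_eq_mul.2 (Subgroup.mem_centralizer_singleton_iff.1 v.2.2).symm
    rw [hfix', h.card] at hmod'
    obtain ⟨l, hl⟩ := IsPGroup.iff_card.1 (h.isPGroup.to_le (inf_le_left : V' ≤ Q))
    have hl5 : l ≤ 5 := by
      have := Subgroup.card_le_of_le (inf_le_left : V' ≤ Q)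
      rw [hl, h.card] at this
      exact (Nat.pow_le_pow_iff_right (a := 2) (by norm_num) (n := l) (m := 5)).1 this
    have hl1 : 2 < Nat.card V' := by
      have hsub : ({1, t, g * t * g⁻¹} : Finset G) ⊆ (Set.toFinite (V' : Set G)).toFinset := by
        intro y hy
        simp only [Finset.mem_insert, Finset.mem_singleton] at hy
        rw [Set.Finite.mem_toFinset]
        rcases hy with rfl | rfl | rfl
        · exact one_mem V'
        · exact ⟨h.mem, Subgroup.mem_centralizer_singleton_iff.2 hxt.symm⟩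
        · exact ⟨huQ, hux⟩
      have h3 : ({1, t, g * t * g⁻¹} : Finset G).card = 3 := by
        have a : (1 : G) ≠ t := fun e => h.ne_one e.symm
        have b : (1 : G) ≠ g * t * g⁻¹ := fun e => h.ne_one (conj_eq_one_iff.1 e.symm)
        simp [a, b, hut.symm]
      have := Finset.card_le_card hsub
      rw [h3, ← Nat.card_eq_card_finite_toFinset] at this
      exact this
    rw [hl] at hmod' hl1
    have hl' : l = 5 := by
      interval_cases l <;> first | rfl | omega | (exfalso; revert hmod'; decide)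
    rw [hl'] at hl
    have hV' : V' = Q := Subgroup.eq_of_le_of_card_ge inf_le_left (by rw [hl, h.card]; norm_num)
    exact hxQ (h.self_centralizing hxt fun q hq =>
      (Subgroup.mem_centralizer_singleton_iff.1 (hV'.ge hq).2).symm)
  · have hlt : k < m := lt_of_le_of_ne hkm fun e => hWV
      (Subgroup.eq_of_le_of_card_ge inf_le_left (by rw [hk, hm, e])).symm
    have hm' : m = 5 := by
      interval_cases m <;> interval_cases k <;> first | rfl | omega | (exfalso; revert hmod; decide)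
    rw [hm'] at hm
    have hWQ : W = Q := Subgroup.eq_of_le_of_card_ge inf_le_right (by rw [hm, h.card]; norm_num)
    exact hWQ.ge.trans inf_le_left

theorem exists_fused_out (h : ExtraFive t Q) (hS : (S : Subgroup G) ≤ Subgroup.centralizer {t}) :
    ∃ y ∈ Q, ∃ g : G, g * y * g⁻¹ ∈ (S : Subgroup G) ∧ g * y * g⁻¹ ∉ Q := by
  classical
  have : Fact (Nat.Prime 2) := ⟨Nat.prime_two⟩
  by_contra hcon
  push Not at hcon
  obtain ⟨d, huQ, hut⟩ := h.other
  set u := d * t * d⁻¹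
  set K := Q ⊓ Subgroup.centralizer {u}
  -- `C_Q(u)` is not abelian
  obtain ⟨a, ha, b, hb, hab⟩ : ∃ a ∈ K, ∃ b ∈ K, a * b * a⁻¹ * b⁻¹ = t := by
    by_contra hn
    push Not at hn
    have habel : ∀ a ∈ K, ∀ b ∈ K, a * b = b * a := fun a ha b hb =>
      mul_inv_eq_iff_eq_mul.1 (mul_inv_eq_one.1
        ((h.comm a ha.1 b hb.1).resolve_right (hn a ha b hb)))
    obtain ⟨y, hy, hyu⟩ : ∃ y ∈ Q, y * u ≠ u * y := by
      by_contra hn2
      push Not at hn2
      rcases h.center u huQ (fun p hp => (hn2 p hp).symm) with e | e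
      · exact h.ne_one (conj_eq_one_iff.1 e)
      · exact hut e
    have two : ∀ v ∈ Q, ∀ p ∈ Q, ∀ q ∈ Q, p * v ≠ v * p → q * v ≠ v * q →
        p⁻¹ * q * v = v * (p⁻¹ * q) := by
      intro v hv p hp q hq hpv hqv
      have e1 := (h.comm p hp v hv).resolve_left fun e =>
        hpv (mul_inv_eq_iff_eq_mul.1 (mul_inv_eq_one.1 e))
      have e2 := (h.comm q hq v hv).resolve_left fun e =>
        hqv (mul_inv_eq_iff_eq_mul.1 (mul_inv_eq_one.1 e))
      calc p⁻¹ * q * v = p⁻¹ * (q * v * q⁻¹ * v⁻¹) * v * q := by group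
        _ = p⁻¹ * (p * v * p⁻¹ * v⁻¹) * v * q := by rw [e1, e2]
        _ = _ := by group
    set L := K ⊓ Subgroup.centralizer {y}
    have hLle : L ≤ Subgroup.zpowers t := by
      intro l hl
      obtain ⟨⟨hlQ, hlu⟩, hly⟩ := hl
      have hc : ∀ p ∈ Q, l * p = p * l := by
        intro p hp
        by_cases hpu : p * u = u * p
        · exact habel l ⟨hlQ, hlu⟩ p ⟨hp, Subgroup.mem_centralizer_singleton_iff.2 hpu⟩
        · have e := habel l ⟨hlQ, hlu⟩ (y⁻¹ * p) ⟨Q.mul_mem (Q.inv_mem hy) hp,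
            Subgroup.mem_centralizer_singleton_iff.2 (two u huQ y hy p hp hyu hpu)⟩
          have e' : l * y = y * l := Subgroup.mem_centralizer_singleton_iff.1 hly
          calc l * p = (l * y) * (y⁻¹ * p) := by group
            _ = y * (l * (y⁻¹ * p)) := by rw [e', mul_assoc]
            _ = p * l := by rw [e]; group
      rcases h.center l hlQ hc with rfl | rfl
      · exact one_mem _
      · exact Subgroup.mem_zpowers _
    -- both centralisers have index at most 2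
    have hidx : ∀ (A : Subgroup G) (v : G), v ∈ Q → A ≤ Q →
        Nat.card A ≤ 2 * Nat.card ↥(A ⊓ Subgroup.centralizer {v}) := by
      intro A v hv hA
      set B := (Subgroup.centralizer {v}).subgroupOf A
      have hB : Nat.card B = Nat.card ↥(A ⊓ Subgroup.centralizer {v}) := by
        show Nat.card ↥((Subgroup.centralizer {v}).subgroupOf A) = _
        rw [← Subgroup.inf_subgroupOf_left]
        exact Nat.card_congr (Subgroup.subgroupOfEquivOfLe inf_le_left).toEquiv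
      have hi : B.index ≤ 2 := by
        by_cases hall : ∀ a : ↥A, a ∈ B
        · rw [(Subgroup.eq_top_iff' B).2 hall, Subgroup.index_top]; norm_num
        · push Not at hall
          obtain ⟨p, hp⟩ := hall
          have hpv : (p : G) * v ≠ v * p := fun e =>
            hp (Subgroup.mem_centralizer_singleton_iff.2 e)
          let F : Fin 2 → ↥A ⧸ B := ![QuotientGroup.mk 1, QuotientGroup.mk p]
          have hF : Function.Surjective F := by
            intro q
            induction q using QuotientGroup.induction_on with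
            | _ a =>
              by_cases hav : (a : G) * v = v * a
              · exact ⟨0, QuotientGroup.eq.2 (by
                  simpa [B, Subgroup.mem_subgroupOf, Subgroup.mem_centralizer_singleton_iff] using hav)⟩
              · refine ⟨1, QuotientGroup.eq.2 ?_⟩
                exact Subgroup.mem_centralizer_singleton_iff.2
                  (two v hv p (hA p.2) a (hA a.2) hpv hav)
          have := Nat.card_le_card_of_surjective F hF
          simpa [Subgroup.index] using this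
      rw [← hB, ← Subgroup.card_mul_index B, mul_comm 2]
      exact Nat.mul_le_mul_left _ hi
    have h1 := hidx Q u huQ le_rfl
    have h2 := hidx K y hy inf_le_left
    have h3 := Subgroup.card_le_of_le hLle
    have h4 : Nat.card (Subgroup.zpowers t) = 2 := by
      rw [Nat.card_zpowers, orderOf_eq_prime (by rw [pow_two]; exact h.sq) h.ne_one]
    rw [h.card] at h1
    change Nat.card K ≤ 2 * Nat.card L at h2
    change 32 ≤ 2 * Nat.card K at h1
    omega
  -- the conjugate of `K` in `C(t)` moved into `S`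
  set C := Subgroup.centralizer {t}
  let K' : Subgroup ↥C := (K.map (MulAut.conj d⁻¹).toMonoidHom).subgroupOf C
  have hK' : IsPGroup 2 ↥K' := by
    have := (h.isPGroup.to_le (inf_le_left : K ≤ Q)).map (MulAut.conj d⁻¹).toMonoidHom
    exact this.comap_of_injective _ C.subtype_injective
  obtain ⟨P, hP⟩ := hK'.exists_le_sylow
  obtain ⟨c, hc⟩ := MulAction.exists_smul_eq ↥C P (S.subtype hS)
  have hmove : ∀ k ∈ K, d⁻¹ * k * d ∈ Q := by
    intro k hk
    have hkC : d⁻¹ * k * d ∈ C := by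
      have e : k * u = u * k := Subgroup.mem_centralizer_singleton_iff.1 hk.2
      refine Subgroup.mem_centralizer_singleton_iff.2 ?_
      calc d⁻¹ * k * d * t = d⁻¹ * (k * u) * d := by simp only [u]; group
        _ = t * (d⁻¹ * k * d) := by rw [e]; simp only [u]; group
    have hkP : (⟨d⁻¹ * k * d, hkC⟩ : ↥C) ∈ (P : Subgroup ↥C) := hP
      (show (⟨d⁻¹ * k * d, hkC⟩ : ↥C) ∈ K' from
        Subgroup.mem_subgroupOf.2 (Subgroup.mem_map.2 ⟨k, hk, by simp⟩))
    have hkS : c * ⟨d⁻¹ * k * d, hkC⟩ * c⁻¹ ∈ ((S.subtype hS : Sylow 2 ↥C) : Subgroup ↥C) := by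
      rw [← hc]
      exact ⟨_, hkP, rfl⟩
    have hin : ((c : G) * d⁻¹) * k * ((c : G) * d⁻¹)⁻¹ ∈ Q := by
      refine hcon k hk.1 _ ?_
      have := Subgroup.mem_subgroupOf.1 hkS
      simpa [mul_assoc] using this
    have hc' : (c : G)⁻¹ * t = t * (c : G)⁻¹ := by
      have := Subgroup.mem_centralizer_singleton_iff.1 c.2
      rw [inv_mul_eq_iff_eq_mul, ← mul_assoc, this, mul_inv_cancel_right]
    have := h.conj_mem_Q hc' hin
    simpa [mul_assoc] using this
  rcases h.comm _ (hmove a ha) _ (hmove b hb) with e | e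
  · refine h.ne_one (conj_eq_one_iff (a := d⁻¹).1 ?_)
    rw [← e, ← hab]; group
  · refine hut ?_
    calc u = d * (d⁻¹ * a * d * (d⁻¹ * b * d) * (d⁻¹ * a * d)⁻¹ * (d⁻¹ * b * d)⁻¹) * d⁻¹ := by
          rw [e]
      _ = t := by rw [← hab]; group

theorem T_eq (h : ExtraFive t Q) (hS : (S : Subgroup G) ≤ Subgroup.centralizer {t})
    (hT : (groupFusionSystem (S : Subgroup G)).StronglyClosed T) (hne : T ≠ ⊥) :
    T = (S : Subgroup G) := by
  refine le_antisymm hT.1 fun s hs => ?_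
  have hQT := h.Q_le_T hS hT hne
  by_cases hsQ : s ∈ Q
  · exact hQT hsQ
  obtain ⟨y, hy, g, hgS, hgQ⟩ := h.exists_fused_out hS
  have hzT := mem_T hT (hQT hy) hgS
  set z := g * y * g⁻¹
  obtain ⟨f, hr, hf⟩ := h.quot
  have hinv : ∀ (w : G) (hw : w ∈ (S : Subgroup G)), f ⟨w, hS hw⟩ * f ⟨w, hS hw⟩ = 1 := by
    intro w hw
    set a := f ⟨w, hS hw⟩ with ha
    obtain ⟨n, hn⟩ := S.2 ⟨w, hw⟩
    have hn' : a ^ 2 ^ n = 1 := by
      rw [ha, ← map_pow, show (⟨w, hS hw⟩ : ↥(Subgroup.centralizer {t})) ^ 2 ^ n = 1 from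
        Subtype.ext (by simpa using congrArg Subtype.val hn), map_one]
    have hsg : Equiv.Perm.sign a = 1 := Equiv.Perm.mem_alternatingGroup.1 (hr ▸ ⟨_, rfl⟩)
    rw [← pow_two]
    rcases five_orders a hsg with e | e | e
    · exact e
    all_goals
      have hd := Nat.dvd_gcd (orderOf_dvd_of_pow_eq_one hn') (orderOf_dvd_of_pow_eq_one e)
      rw [Nat.Coprime.pow_left n (by norm_num), Nat.dvd_one, orderOf_eq_one_iff] at hd
      rw [hd, one_pow]
  have hsgn : ∀ c, Equiv.Perm.sign (f c) = 1 := fun c =>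
    Equiv.Perm.mem_alternatingGroup.1 (hr ▸ ⟨c, rfl⟩)
  obtain ⟨p, hp, hpab⟩ := five_involutions_conj (f ⟨z, hS hgS⟩) (f ⟨s, hS hs⟩) (hsgn _) (hsgn _)
    (hinv z hgS) (hinv s hs) (fun e => hgQ ((hf _).1 e)) (fun e => hsQ ((hf _).1 e))
  obtain ⟨c, rfl⟩ : p ∈ f.range := hr.symm ▸ Equiv.Perm.mem_alternatingGroup.2 hp
  have hq : (((c * ⟨z, hS hgS⟩ * c⁻¹) * (⟨s, hS hs⟩ : ↥(Subgroup.centralizer {t}))⁻¹ :
      ↥(Subgroup.centralizer {t})) : G) ∈ Q := by
    refine (hf ((c * ⟨z, hS hgS⟩ * c⁻¹) * (⟨s, hS hs⟩ : ↥(Subgroup.centralizer {t}))⁻¹)).1 ?_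
    rw [map_mul, map_mul, map_mul, map_inv, map_inv, hpab, mul_inv_cancel]
  set q := ((c : G) * z * (c : G)⁻¹) * s⁻¹ with hqdef
  have hq' : q ∈ Q := hq
  have he : (c : G) * z * (c : G)⁻¹ = q * s := by rw [hqdef]; group
  have hcz : (c : G) * z * (c : G)⁻¹ ∈ T :=
    mem_T hT hzT (he ▸ mul_mem (h.Q_le hS hq') hs)
  have : s = q⁻¹ * ((c : G) * z * (c : G)⁻¹) := by rw [he]; group
  rw [this]
  exact mul_mem (InvMemClass.inv_mem (hQT hq')) hcz

theorem hom_congr_dom {Ω : Type*} [Group Ω] {R : Subgroup Ω} (E : FusionSystem R)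
    {P P' : Subgroup Ω} (e : P' = P) {χ : P' →* Ω} (hχ : χ ∈ E.Hom P') {ψ : P →* Ω}
    (h : ∀ x (hx : x ∈ P) (hx' : x ∈ P'), ψ ⟨x, hx⟩ = χ ⟨x, hx'⟩) : ψ ∈ E.Hom P := by
  subst e
  exact mem_hom_congr E hχ fun x => h x x.2 x.2

variable {E : FusionSystem (S : Subgroup G)}

/-- every automorphism of `Q` induced by `C(t)` lies in an invariant subsystem over `S` -/
theorem conj_mem_sub (h : ExtraFive t Q) (hS : (S : Subgroup G) ≤ Subgroup.centralizer {t})
    (hE : E.IsInvariantIn (groupFusionSystem (S : Subgroup G))) {c : G} (hc : c * t = t * c) :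
    conjHom Q c ∈ E.Hom Q := by
  obtain ⟨-, -, hinv, hfr⟩ := hE
  set C := Subgroup.centralizer {t}
  have hCt : ∀ a : ↥C, (a : G) * t = t * a := fun a => Subgroup.mem_centralizer_singleton_iff.1 a.2
  have hQS := h.Q_le hS
  have hmul : ∀ a b : ↥C, conjHom Q (a : G) ∈ E.Hom Q → conjHom Q (b : G) ∈ E.Hom Q →
      conjHom Q ((a * b : ↥C) : G) ∈ E.Hom Q := fun a b ha hb =>
    comp_mem' E hb ha (fun x => h.conj_mem_Q (hCt b) x.2) fun x => by
      simp [mul_assoc]
  let M : Submonoid ↥C :=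
    { carrier := {a | conjHom Q (a : G) ∈ E.Hom Q}
      one_mem' := conj_mem' E hQS (one_mem _) fun x => by simp
      mul_mem' := fun {a b} ha hb => hmul a b ha hb }
  let H : Subgroup ↥C :=
    { M with
      inv_mem' := fun {a} ha => by
        obtain ⟨n, hn⟩ : ∃ n : ℕ, a⁻¹ = a ^ n := ⟨orderOf a - 1, by
          rw [inv_eq_iff_mul_eq_one, ← pow_succ', Nat.sub_add_cancel (orderOf_pos a),
            pow_orderOf_eq_one]⟩
        show a⁻¹ ∈ M
        rw [hn]
        exact M.pow_mem ha n }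
  have hH : ∀ a : ↥C, a ∈ H ↔ conjHom Q (a : G) ∈ E.Hom Q := fun a => Iff.rfl
  have hSH : ∀ s, (hs : s ∈ (S : Subgroup G)) → (⟨s, hS hs⟩ : ↥C) ∈ H := fun s hs =>
    (hH _).2 (E.conj_mem hQS hs)
  have hQH : ∀ a : ↥C, (a : G) ∈ Q → a ∈ H := fun a ha => hSH a (hQS ha)
  have : H.Normal := ⟨fun g hg a => by
    -- split `a` along the Frattini condition
    obtain ⟨α, hα, φ₀, hφ₀, hspl⟩ := hfr Q hQS (conjHom Q (a : G))
      ⟨hQS, fun x => hQS (h.conj_mem_Q (hCt a) x.2), a, fun x => rfl⟩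
    obtain ⟨-, -, m, hm⟩ := autGroup_mem_hom _ le_rfl hα
    have hαv : ∀ x, ((α x : ↥(S : Subgroup G)) : G) = m * (x : G) * m⁻¹ := hm
    have hm1 : ∀ s ∈ (S : Subgroup G), m * s * m⁻¹ ∈ (S : Subgroup G) := fun s hs =>
      hαv ⟨s, hs⟩ ▸ (α ⟨s, hs⟩).2
    have hm2 : ∀ s ∈ (S : Subgroup G), m⁻¹ * s * m ∈ (S : Subgroup G) := fun s hs => by
      obtain ⟨w, hw⟩ := α.surjective ⟨s, hs⟩
      have := hαv w
      rw [hw] at this
      rw [show m⁻¹ * s * m = (w : G) by rw [show s = m * (w : G) * m⁻¹ from this]; group]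
      exact w.2
    let m' : ↥C := ⟨m, Subgroup.mem_centralizer_singleton_iff.2 (h.normalizer_le hS hm1 hm2)⟩
    have hk : (m'⁻¹ * a) ∈ H := (hH _).2 (mem_hom_congr E hφ₀ fun x => by
      have e := hspl x (map_mem_S E hφ₀ x)
      rw [hαv, conjHom_apply] at e
      show m⁻¹ * (a : G) * (x : G) * (m⁻¹ * (a : G))⁻¹ = φ₀ x
      calc m⁻¹ * (a : G) * (x : G) * (m⁻¹ * (a : G))⁻¹ = m⁻¹ * ((a : G) * x * (a : G)⁻¹) * m := by
            group
        _ = φ₀ x := by rw [e]; group)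
    have hg' : (m'⁻¹ * a) * g * (m'⁻¹ * a)⁻¹ ∈ H := H.mul_mem (H.mul_mem hk hg) (H.inv_mem hk)
    set g' := (m'⁻¹ * a) * g * (m'⁻¹ * a)⁻¹
    obtain ⟨χ, hχ, hχv⟩ := hinv Q hQS (conjHom Q (g' : G)) ((hH _).1 hg') α hα
    have hmQ : ∀ q ∈ Q, m * q * m⁻¹ ∈ Q := fun q hq => h.conj_mem_Q (hCt m') hq
    have hmQ' : ∀ q ∈ Q, m⁻¹ * q * m ∈ Q := fun q hq => by
      have := h.conj_mem_Q (hCt m'⁻¹) hq
      simpa [m', mul_assoc] using this
    have hfin : conjHom Q ((m' * g' * m'⁻¹ : ↥C) : G) ∈ E.Hom Q := by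
      refine hom_congr_dom E ?_ hχ fun x hx hx' => ?_
      · ext y
        rw [mem_map_subgroupOf]
        constructor
        · rintro ⟨w, hw, rfl⟩
          show ((α w : ↥(S : Subgroup G)) : G) ∈ Q
          rw [hαv]
          exact hmQ w hw
        · intro hy
          refine ⟨⟨m⁻¹ * y * m, hQS (hmQ' y hy)⟩, hmQ' y hy, ?_⟩
          show ((α _ : ↥(S : Subgroup G)) : G) = y
          rw [hαv]; group
      · have hmem : conjHom Q (g' : G) ⟨m⁻¹ * x * m, hmQ' x hx⟩ ∈ (S : Subgroup G) :=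
          hQS (h.conj_mem_Q (hCt g') (hmQ' x hx))
        have ex : ((α ⟨m⁻¹ * x * m, hQS (hmQ' x hx)⟩ : ↥(S : Subgroup G)) : G) = x := by
          rw [hαv]; group
        have e := hχv ⟨m⁻¹ * x * m, hmQ' x hx⟩ hmem (ex.symm ▸ hx')
        have e2 : χ ⟨x, hx'⟩ = m * ((g' : G) * (m⁻¹ * x * m) * (g' : G)⁻¹) * m⁻¹ :=
          ((congrArg χ (Subtype.ext ex.symm)).trans e).trans (hαv _)
        rw [e2, conjHom_apply]
        simp [m', mul_assoc]
    have : a * g * a⁻¹ = m' * g' * m'⁻¹ := by simp only [g']; group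
    rw [this]
    exact (hH _).2 hfin⟩
  obtain ⟨f, hr, hf⟩ := h.quot
  let g : ↥C →* ↥(alternatingGroup (Fin 5)) := f.codRestrict _ fun c => hr ▸ ⟨c, rfl⟩
  have hg : Function.Surjective g := fun a => by
    obtain ⟨c, hc⟩ : (a : Equiv.Perm (Fin 5)) ∈ f.range := hr.symm ▸ a.2
    exact ⟨c, Subtype.ext hc⟩
  have : (H.map g).Normal := Subgroup.Normal.map inferInstance g hg
  have : IsSimpleGroup ↥(alternatingGroup (Fin 5)) := alternatingGroup.isSimpleGroup (by simp)
  obtain ⟨y, hy, k, hkS, hkQ⟩ := h.exists_fused_out hS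
  have htop : H.map g = ⊤ := by
    refine (Subgroup.Normal.eq_bot_or_eq_top (H := H.map g) inferInstance).resolve_left fun e => ?_
    have : g ⟨_, hS hkS⟩ = 1 :=
      Subgroup.mem_bot.1 (e ▸ Subgroup.mem_map_of_mem g (hSH _ hkS))
    exact hkQ ((hf _).1 (congrArg Subtype.val this))
  let c' : ↥C := ⟨c, Subgroup.mem_centralizer_singleton_iff.2 hc⟩
  obtain ⟨w, hw, hwc⟩ : g c' ∈ H.map g := htop ▸ Subgroup.mem_top _
  have hq : ((w⁻¹ * c' : ↥C) : G) ∈ Q := (hf _).1 (by
    rw [map_mul, map_inv, show f w = f c' from congrArg Subtype.val hwc, inv_mul_cancel])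
  have : c' ∈ H := by
    have := H.mul_mem hw (hQH _ hq)
    rwa [mul_inv_cancel_left] at this
  exact (hH _).1 this

theorem autGroup_le (h : ExtraFive t Q) (hS : (S : Subgroup G) ≤ Subgroup.centralizer {t})
    (hsat : E.IsSaturated 2) (hE : E.IsInvariantIn (groupFusionSystem (S : Subgroup G))) :
    (groupFusionSystem (S : Subgroup G)).autGroup S ≤ E.autGroup S := by
  have : Fact (Nat.Prime 2) := ⟨Nat.prime_two⟩
  intro α hα
  obtain ⟨-, -, m, hm⟩ := autGroup_mem_hom _ le_rfl hα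
  have hαv : ∀ x, ((α x : ↥(S : Subgroup G)) : G) = m * (x : G) * m⁻¹ := hm
  have hm1 : ∀ s ∈ (S : Subgroup G), m * s * m⁻¹ ∈ (S : Subgroup G) := fun s hs =>
    hαv ⟨s, hs⟩ ▸ (α ⟨s, hs⟩).2
  have hm2 : ∀ s ∈ (S : Subgroup G), m⁻¹ * s * m ∈ (S : Subgroup G) := fun s hs => by
    obtain ⟨w, hw⟩ := α.surjective ⟨s, hs⟩
    have := hαv w
    rw [hw] at this
    rw [show m⁻¹ * s * m = (w : G) by rw [show s = m * (w : G) * m⁻¹ from this]; group]
    exact w.2
  have hmt := h.normalizer_le hS hm1 hm2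
  have hQS := h.Q_le hS
  have hφ := h.conj_mem_sub hS hE hmt
  have hrange : (conjHom Q m).range = Q := by
    refine Subgroup.eq_of_le_of_card_ge (by rintro _ ⟨x, rfl⟩; exact h.conj_mem_Q hmt x.2) ?_
    exact (Nat.card_congr (MonoidHom.ofInjective (E.injective_of_mem hφ)).toEquiv).le
  have hNQ : ∀ s ∈ (S : Subgroup G), s ∈ Subgroup.normalizer (Q : Set G) := by
    intro s hs
    have hs' := Subgroup.mem_centralizer_singleton_iff.1 (hS hs)
    have hs'' := Subgroup.mem_centralizer_singleton_iff.1 (hS (InvMemClass.inv_mem hs))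
    exact Subgroup.mem_normalizer_iff.2 fun q => ⟨h.conj_mem_Q hs', fun hq => by
      have := h.conj_mem_Q hs'' hq
      simpa [mul_assoc] using this⟩
  have hfn : E.IsFullyNormalized Q :=
    ⟨hQS, fun R _ => Subgroup.card_le_of_le (fun s hs => ⟨hs.1, hNQ s hs.1⟩)⟩
  obtain ⟨-, hrec⟩ := saturated_receptive_of_fullyNormalized S.2 hsat hfn
  obtain ⟨ψ, hψ, hext⟩ := hrec Q (conjHom Q m) hφ hrange
  have hN : (S : Subgroup G) ≤ extender (S : Subgroup G) Q (conjHom Q m) := fun s hs =>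
    mem_extender.2 ⟨hs, hNQ s hs, m * s * m⁻¹, hm1 s hs, fun x hx => by
      simp [mul_assoc]⟩
  obtain ⟨-, -, n, hn⟩ := hE.1 _ hψ
  have hmn : ∀ q ∈ Q, n * q * n⁻¹ = m * q * m⁻¹ := fun q hq => by
    have e := hext q hq (hN (hQS hq))
    rw [hn, conjHom_apply] at e
    exact e
  have hn1 : ∀ s ∈ (S : Subgroup G), n * s * n⁻¹ ∈ (S : Subgroup G) := fun s hs =>
    (hn ⟨s, hN hs⟩) ▸ map_mem_S E hψ _
  have hnt : n * t = t * n := by
    have := hmn t h.mem
    rw [show m * t * m⁻¹ = t from mul_inv_eq_iff_eq_mul.2 hmt] at this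
    exact mul_inv_eq_iff_eq_mul.1 this
  have hd : (m⁻¹ * n) * t = t * (m⁻¹ * n) := by
    have hm' : m⁻¹ * t = t * m⁻¹ := by
      rw [inv_mul_eq_iff_eq_mul, ← mul_assoc, hmt, mul_inv_cancel_right]
    rw [mul_assoc, hnt, ← mul_assoc, hm', mul_assoc]
  have hdQ : ∀ q ∈ Q, (m⁻¹ * n) * q = q * (m⁻¹ * n) := fun q hq => by
    refine mul_inv_eq_iff_eq_mul.1 ?_
    calc m⁻¹ * n * q * (m⁻¹ * n)⁻¹ = m⁻¹ * (n * q * n⁻¹) * m := by group
      _ = q := by rw [hmn q hq]; group
  have hdmem := h.self_centralizing hd hdQ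
  have hcen : ∀ s ∈ (S : Subgroup G), (m⁻¹ * n) * s = s * (m⁻¹ * n) := by
    rcases h.center _ hdmem hdQ with e | e <;> intro s hs <;> rw [e]
    · simp
    · exact (Subgroup.mem_centralizer_singleton_iff.1 (hS hs)).symm
  refine (mem_autGroup_iff_hom E le_rfl).2 (mem_of_restricts E hN hψ fun x => ?_)
  show ((α x : ↥(S : Subgroup G)) : G) = ψ ⟨x, hN x.2⟩
  rw [hαv, hn]
  calc m * (x : G) * m⁻¹ = m * ((m⁻¹ * n) * x * (m⁻¹ * n)⁻¹) * m⁻¹ := by
        rw [hcen x x.2, mul_inv_cancel_right]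
    _ = n * (x : G) * n⁻¹ := by group

/-- the 2-fusion system is simple -/
theorem isSimple (h : ExtraFive t Q) (hS : (S : Subgroup G) ≤ Subgroup.centralizer {t}) :
    (groupFusionSystem (S : Subgroup G)).IsSimple 2 := by
  have : Fact (Nat.Prime 2) := ⟨Nat.prime_two⟩
  refine ⟨saturated_of_realized (groupFusionSystem_isRealizedBy _) S
    (Subgroup.range_subtype _).symm, fun e => h.ne_one (Subgroup.mem_bot.1 (e ▸ h.t_mem_S hS)),
    fun T E hE => ?_⟩
  obtain ⟨⟨hsat, -, hinv⟩, -⟩ := hE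
  by_cases hT : T = ⊥
  · exact Or.inl hT
  · have e := h.T_eq hS hinv.2.1 hT
    subst e
    exact Or.inr ⟨rfl, eq_of_invariant hinv (h.autGroup_le hS hsat hinv)⟩

end ExtraFive

end Cfsg.Agent.FusionSimple
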