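import Cfsg.Agent.FusionSimple.ExtraFive

/-! Transport of `ExtraFive` along an isomorphism. -/

set_option autoImplicit false

namespace Cfsg.Agent.FusionSimple

theorem ExtraFive.comap {G H : Type*} [Group G] [Group H] {t : H} {Q : Subgroup H}
    (h : ExtraFive t Q) (e : G ≃* H) :
    ExtraFive (e.symm t) (Q.comap e.toMonoidHom) := by
  have hmem : ∀ x, x ∈ Q.comap e.toMonoidHom ↔ e x ∈ Q := fun x => Iff.rfl
  have hct : ∀ x, x * e.symm t = e.symm t * x ↔ e x * t = t * e x := fun x => by
    rw [← e.injective.eq_iff, map_mul, map_mul, e.apply_symm_apply]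
  refine ⟨(hmem _).2 (by rw [e.apply_symm_apply]; exact h.mem), fun he => h.ne_one ?_, ?_,
    fun x hx => ?_, fun q hq hqc => ?_, fun p hp q hq => ?_, ?_, ?_, ?_⟩
  · simpa using congrArg e he
  · rw [← h.card]
    exact Nat.card_congr (e.toEquiv.subtypeEquiv fun x => hmem x)
  · exact Subgroup.mem_centralizer_singleton_iff.2 ((hct x).2
      (Subgroup.mem_centralizer_singleton_iff.1 (h.le_cent hx)))
  · rcases h.center (e q) hq (fun p hp => by
      have := congrArg e (hqc (e.symm p) ((hmem _).2 (by rwa [e.apply_symm_apply])))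
      simpa using this) with r | r
    · exact Or.inl (e.injective (by rw [r, map_one]))
    · exact Or.inr (e.injective (by rw [r, e.apply_symm_apply]))
  · rcases h.comm (e p) hp (e q) hq with r | r
    · exact Or.inl (e.injective (by simpa using r))
    · exact Or.inr (e.injective (by simpa using r))
  · obtain ⟨f, hr, hf⟩ := h.quot
    have hmap : ∀ x, x ∈ Subgroup.centralizer {e.symm t} ↔ e x ∈ Subgroup.centralizer {t} :=
      fun x => by
        rw [Subgroup.mem_centralizer_singleton_iff, Subgroup.mem_centralizer_singleton_iff]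
        exact hct x
    let k : ↥(Subgroup.centralizer {e.symm t}) →* ↥(Subgroup.centralizer {t}) :=
      (e.toMonoidHom.comp (Subgroup.subtype _)).codRestrict _ fun c => (hmap c).1 c.2
    have hk : Function.Surjective k := fun c =>
      ⟨⟨e.symm c, (hmap _).2 (by rw [e.apply_symm_apply]; exact c.2)⟩,
        Subtype.ext (e.apply_symm_apply _)⟩
    refine ⟨f.comp k, ?_, fun c => hf (k c)⟩
    rw [MonoidHom.range_comp, MonoidHom.range_eq_top.2 hk, ← MonoidHom.range_eq_map, hr]
  · obtain ⟨c, q, hc, hq, h1, h2⟩ := h.outer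
    refine ⟨e.symm c, e.symm q, (hct _).2 (by rwa [e.apply_symm_apply]),
      (hmem _).2 (by rwa [e.apply_symm_apply]), fun r => h1 ?_, fun r => h2 ?_⟩
    · simpa using congrArg e r
    · simpa using congrArg e r
  · obtain ⟨g, hg, hg'⟩ := h.other
    refine ⟨e.symm g, (hmem _).2 (by simpa using hg), fun r => hg' ?_⟩
    simpa using congrArg e r

end Cfsg.Agent.FusionSimple
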