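import Cfsg.Agent.TwoGroups.Recognition
import Cfsg.Prelude.Def_CaseTheorems

/-!
Generation of dihedral and quasi-dihedral groups by involutions and elements of order four.
-/

set_option autoImplicit false
set_option maxHeartbeats 400000

namespace Cfsg.Agent.FusionSimple

theorem eq_top_of_dihedral_or_quasi {P : Type*} [Group P] [Finite P]
    (h : (∃ n : ℕ, Nonempty (P ≃* DihedralGroup n)) ∨ Cfsg.IsQuasiDihedral P) (T : Subgroup P)
    (hinv : ∀ x : P, x * x = 1 → x ∈ T)
    (hfour : ∀ x ∈ T, orderOf x = 4 → ∀ y : P, orderOf y = 4 → y ∈ T) : T = ⊤ := by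
  rcases h with ⟨n, ⟨e⟩⟩ | ⟨n, hn, hcard, x, y, hx, hy, hxy⟩
  · have hsr : ∀ i, e.symm (DihedralGroup.sr i) ∈ T := fun i => hinv _ (by
      rw [← map_mul]; simp)
    refine eq_top_iff.2 fun u _ => ?_
    rw [← e.symm_apply_apply u]
    rcases e u with i | i
    · rw [show (DihedralGroup.r i : DihedralGroup n) = DihedralGroup.sr 0 * DihedralGroup.sr i by simp,
        map_mul]
      exact T.mul_mem (hsr 0) (hsr i)
    · exact hsr i
  · haveI : Fact (Nat.Prime 2) := ⟨Nat.prime_two⟩
    obtain ⟨m, rfl⟩ : ∃ m, n = m + 3 := ⟨n - 3, by omega⟩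
    have hyy : y * y = 1 := by rw [← pow_two, ← hy, pow_orderOf_eq_one]
    have hyi : y⁻¹ = y := inv_eq_of_mul_eq_one_right hyy
    have hpow : ∀ i : ℕ, (y * x ^ i) * (y * x ^ i) = x ^ (i * 2 ^ (m + 2)) := by
      intro i
      have h1 : y * x ^ i * y = x ^ (i * (2 ^ (m + 2) - 1)) := by
        calc y * x ^ i * y = y * x ^ i * y⁻¹ := by rw [hyi]
          _ = (y * x * y⁻¹) ^ i := (conj_pow).symm
          _ = _ := by rw [hxy, ← pow_mul, mul_comm]; rfl
      rw [← mul_assoc, h1, ← pow_add]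
      congr 1
      have := Nat.one_le_two_pow (n := m + 2)
      obtain ⟨t, ht⟩ : ∃ t, 2 ^ (m + 2) = t + 1 := ⟨2 ^ (m + 2) - 1, by omega⟩
      rw [ht, Nat.add_sub_cancel]
      ring
    have hx2 : x ^ 2 ^ (m + 3) = 1 := hx ▸ pow_orderOf_eq_one x
    have hev : ∀ j : ℕ, y * x ^ (2 * j) ∈ T := fun j => hinv _ (by
      rw [hpow, show 2 * j * 2 ^ (m + 2) = 2 ^ (m + 3) * j by ring, pow_mul, hx2, one_pow])
    have hyT : y ∈ T := hinv y hyy
    have hxT : x ^ 2 ∈ T := by
      have := T.mul_mem hyT (hev 1)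
      rwa [← mul_assoc, hyy, one_mul, mul_one] at this
    have ho4 : orderOf (x ^ 2 ^ (m + 1)) = 4 := by
      rw [orderOf_pow_of_dvd (by positivity) (hx ▸ pow_dvd_pow 2 (by omega)), hx,
        Nat.pow_div (by omega) two_pos, show m + 3 - (m + 1) = 2 by omega]
      rfl
    have hyx : orderOf (y * x) = 4 := by
      have h := hpow 1
      rw [pow_one, one_mul] at h
      refine orderOf_eq_prime_pow (n := 1) (p := 2) ?_ ?_
      · rw [pow_one, pow_two, h]
        exact pow_ne_one_of_lt_orderOf (by positivity) (by rw [hx]; exact Nat.pow_lt_pow_right one_lt_two (by omega))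
      · rw [show 2 ^ (1 + 1) = 2 * 2 by rfl, pow_mul, pow_two (y * x), h, ← pow_mul, show 2 ^ (m + 2) * 2 = 2 ^ (m + 3) by ring, hx2]
    have hxm : x ^ 2 ^ (m + 1) ∈ T := by
      rw [pow_succ', pow_mul]; exact T.pow_mem hxT _
    have hyxT : y * x ∈ T := hfour _ hxm ho4 _ hyx
    have hxT' : x ∈ T := by
      have := T.mul_mem hyT hyxT
      rwa [← mul_assoc, hyy, one_mul] at this
    have hidx : (Subgroup.zpowers x).index = 2 := by
      have h := (Subgroup.zpowers x).card_mul_index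
      rw [Nat.card_zpowers, hx, hcard, pow_succ 2 (m + 3)] at h
      exact Nat.eq_of_mul_eq_mul_left (by positivity) h
    have hyn : y ∉ Subgroup.zpowers x := by
      intro hmem
      obtain ⟨i, hi⟩ := Subgroup.mem_zpowers_iff.1 hmem
      have h1 : y * x * y⁻¹ = x := by rw [← hi]; group
      rw [hxy] at h1
      nth_rewrite 2 [← pow_one x] at h1
      have := pow_injOn_Iio_orderOf (x := x) (by
        rw [Set.mem_Iio, hx]
        exact lt_of_le_of_lt (Nat.sub_le _ _) (Nat.pow_lt_pow_right one_lt_two (by omega)))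
        (by rw [Set.mem_Iio, hx]; exact Nat.one_lt_two_pow (by omega)) h1
      have h4 : 4 ≤ 2 ^ (m + 3 - 1) := le_trans (by norm_num) (Nat.pow_le_pow_right two_pos (show 2 ≤ m + 3 - 1 by omega))
      omega
    refine eq_top_iff.2 fun u _ => ?_
    by_cases hu : u ∈ Subgroup.zpowers x
    · exact (Subgroup.zpowers_le.2 hxT') hu
    · have : y * u ∈ Subgroup.zpowers x :=
        (Subgroup.mul_mem_iff_of_index_two hidx).2 (iff_of_false hyn hu)
      have := T.mul_mem hyT ((Subgroup.zpowers_le.2 hxT') this)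
      rwa [← mul_assoc, hyy, one_mul] at this

end Cfsg.Agent.FusionSimple
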