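import Cfsg.Agent.Linear.Torus
import Cfsg.Agent.Elusive.TwoByTwo
import Cfsg.Agent.FusionSys.DihedralAut

/-!
The Sylow `2`-subgroup of `SL_2(q)` and the elements normalizing it.
-/

set_option autoImplicit false
set_option maxHeartbeats 400000

namespace Cfsg.Agent.FusionSimple.SpF

open Matrix QuaternionGroup
open scoped MatrixGroups

/-- The endomap of the quaternion group of order eight with prescribed images of the two generators. -/
def qmap (I J : QuaternionGroup 2) : QuaternionGroup 2 → QuaternionGroup 2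
  | .a m => I ^ m.val
  | .xa m => J * I ^ m.val

set_option synthInstance.maxSize 2000 in
theorem qmap_axes : ∀ I J : QuaternionGroup 2, I * I = a 2 → J * J = a 2 → J * I = a 2 * (I * J) →
    ((qmap I J I = a 1 ∨ qmap I J I = a 2 * a 1) ∧ (qmap I J J = xa 0 ∨ qmap I J J = a 2 * xa 0)) ∨
    ((qmap I J (qmap I J I) = a 1 ∨ qmap I J (qmap I J I) = a 2 * a 1) ∧
      (qmap I J (qmap I J J) = xa 0 ∨ qmap I J (qmap I J J) = a 2 * xa 0)) := by
  decide

theorem qmap_twist : ∀ I J : QuaternionGroup 2, I * I = a 2 → J * J = a 2 → J * I = a 2 * (I * J) →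
    qmap I J (qmap I J I) = a 1 → qmap I J (qmap I J J) = xa 0 →
    (qmap (a 2 * xa 0) (a 2 * a 1) (qmap I J (qmap (a 2 * xa 0) (a 2 * a 1) I)) = a 1 ∨
      qmap (a 2 * xa 0) (a 2 * a 1) (qmap I J (qmap (a 2 * xa 0) (a 2 * a 1) I)) = a 2 * a 1) ∧
    (qmap (a 2 * xa 0) (a 2 * a 1) (qmap I J (qmap (a 2 * xa 0) (a 2 * a 1) J)) = xa 0 ∨
      qmap (a 2 * xa 0) (a 2 * a 1) (qmap I J (qmap (a 2 * xa 0) (a 2 * a 1) J)) = a 2 * xa 0) := by
  decide

theorem qmap_eq_hom {X : Type*} [Group X] (f : QuaternionGroup 2 →* X) (ψ : X →* X)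
    {I J : QuaternionGroup 2} (hI : ψ (f (a 1)) = f I) (hJ : ψ (f (xa 0)) = f J) (u : QuaternionGroup 2) :
    ψ (f u) = f (qmap I J u) := by
  have ha : ∀ m : ZMod (2 * 2), ψ (f (a m)) = f (I ^ m.val) := fun m => by
    conv_lhs => rw [show (a m : QuaternionGroup 2) = a 1 ^ m.val by
      rw [a_one_pow, ZMod.natCast_zmod_val]]
    rw [map_pow, map_pow, hI, map_pow]
  rcases u with m | m
  · exact ha m
  · conv_lhs => rw [show (xa m : QuaternionGroup 2) = xa 0 * a m by rw [xa_mul_a, zero_add]]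
    rw [map_mul, map_mul, hJ, ha, ← map_mul]
    rfl

variable {F : Type*} [Field F]

/-- The data of a Sylow `2`-subgroup of `SL_2(q)` used for `Sp_4(q)`. -/
structure QData (Q : Subgroup SL(2, F)) where
  i : SL(2, F)
  j : SL(2, F)
  hi : i ∈ Q
  hj : j ∈ Q
  hii : i * i = -1
  hjj : j * j = -1
  hji : j * i = -(i * j)
  neg_mem : -1 ∈ Q
  gen : Q ≤ Subgroup.closure {v | v ∈ Q ∧ v * v = -1}

theorem scalar_of_commute {i j : SL(2, F)} (hne : i * j ≠ j * i) {u : SL(2, F)} (hi : u * i = i * u)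
    (hj : u * j = j * u) : u = 1 ∨ u = -1 := by
  obtain ⟨z, hz⟩ : ∃ z : F, (u : Matrix (Fin 2) (Fin 2) F) = z • 1 := by
    by_contra! h
    exact hne (Subtype.ext (Elusive.commute_of_commute_two h (congrArg Subtype.val hi)
      (congrArg Subtype.val hj)))
  have hd : (u : Matrix (Fin 2) (Fin 2) F).det = 1 := u.det_coe
  rw [hz, Matrix.det_smul, Matrix.det_one, mul_one, Fintype.card_fin, sq] at hd
  rcases mul_self_eq_one_iff.1 hd with h | h
  · exact Or.inl (Subtype.ext (by rw [hz, h, one_smul]; rfl))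
  · exact Or.inr (Subtype.ext (by rw [hz, h]; simp))

variable [Fintype F]

theorem neg_one_ne_one (h2 : (2 : F) ≠ 0) : (-1 : SL(2, F)) ≠ 1 := by
  intro h
  have := congrArg (fun g : SL(2, F) => (g : Matrix (Fin 2) (Fin 2) F) 0 0) h
  simp at this
  exact h2 (by linear_combination -this)

theorem exists_qdata (hodd : Odd (Fintype.card F)) (Q : Sylow 2 SL(2, F)) :
    ∃ k : ℕ, 1 ≤ k ∧ ∃ e : (Q : Subgroup SL(2, F)) ≃* QuaternionGroup (2 ^ k),
      ∃ d : QData (Q : Subgroup SL(2, F)), d.i = (e.symm (a 1 ^ 2 ^ (k - 1)) : SL(2, F)) ∧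
        d.j = (e.symm (xa 0) : SL(2, F)) := by
  obtain ⟨k, hk, ⟨e⟩⟩ := Linear.sylow_two_SL_two_quaternion hodd Q
  haveI : NeZero (2 ^ k) := ⟨by positivity⟩
  have h2 := Linear.two_ne_zero_of_odd_card hodd
  let ι : QuaternionGroup (2 ^ k) →* SL(2, F) := (Q : Subgroup SL(2, F)).subtype.comp e.symm.toMonoidHom
  have hιi : Function.Injective ι := (Subgroup.subtype_injective _).comp e.symm.injective
  set z : QuaternionGroup (2 ^ k) := a ((2 ^ k : ℕ) : ZMod (2 * 2 ^ k)) with hz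
  have hzz : z * z = 1 := by
    rw [hz, a_mul_a, QuaternionGroup.one_def, ← Nat.cast_add, ← two_mul, ZMod.natCast_self]
  have hz1 : z ≠ 1 := by
    rw [hz, QuaternionGroup.one_def, ne_eq, a.injEq, ZMod.natCast_eq_zero_iff]
    intro h
    have := Nat.le_of_dvd (by positivity) h
    have := Nat.two_pow_pos k
    omega
  have hιz : ι z = -1 := Subtype.ext ((Linear.eq_neg_one_of_mul_self h2
    (fun h => hz1 (hιi (h.trans (map_one ι).symm))) (by rw [← map_mul, hzz, map_one])).trans (by simp))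
  have hxa : ∀ m, ι (xa m) * ι (xa m) = -1 := fun m => by
    rw [← map_mul, xa_mul_xa, add_sub_cancel_right]; exact hιz
  have hsplit : 2 ^ (k - 1) + 2 ^ (k - 1) = 2 ^ k := by
    rw [← two_mul, ← pow_succ', Nat.sub_add_cancel hk]
  have hi1 : (a 1 : QuaternionGroup (2 ^ k)) ^ 2 ^ (k - 1) * a 1 ^ 2 ^ (k - 1) = z := by
    rw [← pow_add, hsplit, a_one_pow]
  have hneg : ∀ u : SL(2, F), (-1 : SL(2, F)) * u = -u := fun u => by simp
  have hxx : xa 0 * a 1 ^ 2 ^ (k - 1) = z * (a 1 ^ 2 ^ (k - 1) * xa 0 : QuaternionGroup (2 ^ k)) := by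
    rw [a_one_pow, hz, a_mul_xa, a_mul_xa, xa_mul_a, zero_add, zero_sub, ← hsplit]
    congr 1
    have h0 : ((2 ^ k : ℕ) : ZMod (2 * 2 ^ k)) + ((2 ^ k : ℕ) : ZMod (2 * 2 ^ k)) = 0 := by
      rw [← Nat.cast_add, ← two_mul, ZMod.natCast_self]
    rw [← hsplit, Nat.cast_add] at h0
    push_cast at h0 ⊢
    linear_combination h0
  refine ⟨k, hk, e, ⟨ι (a 1 ^ 2 ^ (k - 1)), ι (xa 0), SetLike.coe_mem _, SetLike.coe_mem _, ?_, hxa 0, ?_,
    hιz ▸ SetLike.coe_mem _, ?_⟩, rfl, rfl⟩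
  · rw [← map_mul, hi1, hιz]
  · rw [← map_mul, hxx, map_mul, hιz, map_mul, hneg]
  · intro u hu
    have hall : ∀ w, ι w ∈ Subgroup.closure {v | v ∈ (Q : Subgroup SL(2, F)) ∧ v * v = -1} := by
      have hxam : ∀ m, ι (xa m) ∈ Subgroup.closure {v | v ∈ (Q : Subgroup SL(2, F)) ∧ v * v = -1} :=
        fun m => Subgroup.subset_closure ⟨SetLike.coe_mem _, hxa m⟩
      rintro (m | m)
      · rw [show (a m : QuaternionGroup (2 ^ k)) = (xa 0)⁻¹ * xa m by
          rw [eq_inv_mul_iff_mul_eq, xa_mul_a, zero_add], map_mul, map_inv]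
        exact mul_mem (inv_mem (hxam 0)) (hxam m)
      · exact hxam m
    simpa [ι] using hall (e ⟨u, hu⟩)

omit [Fintype F] in
theorem axes_imp_mem {Q : Subgroup SL(2, F)} (d : QData Q) (h2 : (2 : F) ≠ 0) {b : SL(2, F)}
    (hi : b * d.i * b⁻¹ = d.i ∨ b * d.i * b⁻¹ = -d.i) (hj : b * d.j * b⁻¹ = d.j ∨ b * d.j * b⁻¹ = -d.j) :
    b ∈ Q := by
  have hne : d.i * d.j ≠ d.j * d.i := by
    intro h
    rw [d.hji] at h
    have hm : ((d.i * d.j : SL(2, F)) : Matrix (Fin 2) (Fin 2) F) = 0 := by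
      ext r s
      have := congrArg (fun g : SL(2, F) => (g : Matrix (Fin 2) (Fin 2) F) r s) h
      simp at this ⊢
      exact mul_left_cancel₀ h2 (by linear_combination this)
    have hd := (d.i * d.j).det_coe
    rw [hm, Matrix.det_zero] at hd
    exact zero_ne_one hd
  have key : ∀ v : SL(2, F), v * d.i * v⁻¹ = b * d.i * b⁻¹ → v * d.j * v⁻¹ = b * d.j * b⁻¹ → v ∈ Q → b ∈ Q := by
    intro v h1 h2' hv
    have c : ∀ w, v * w * v⁻¹ = b * w * b⁻¹ → (v⁻¹ * b) * w = w * (v⁻¹ * b) := fun w h => by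
      calc (v⁻¹ * b) * w = v⁻¹ * (b * w * b⁻¹) * b := by group
        _ = v⁻¹ * (v * w * v⁻¹) * b := by rw [h]
        _ = _ := by group
    rcases scalar_of_commute hne (c _ h1) (c _ h2') with h | h
    · rw [inv_mul_eq_one] at h; exact h ▸ hv
    · rw [inv_mul_eq_iff_eq_mul] at h; rw [h]; exact mul_mem hv d.neg_mem
  have hij : d.i * d.j * d.i⁻¹ = -d.j := by
    rw [mul_inv_eq_iff_eq_mul, neg_mul, d.hji, neg_neg]
  have hji : d.j * d.i * d.j⁻¹ = -d.i := by
    rw [mul_inv_eq_iff_eq_mul, neg_mul]; exact d.hji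
  rcases hi with hi | hi <;> rcases hj with hj | hj
  · exact key 1 (by rw [hi]; simp) (by rw [hj]; simp) (one_mem _)
  · exact key d.i (by rw [hi, mul_inv_cancel_right]) (by rw [hj, hij]) d.hi
  · exact key d.j (by rw [hi, hji]) (by rw [hj, mul_inv_cancel_right]) d.hj
  · refine key (d.i * d.j) ?_ ?_ (mul_mem d.hi d.hj)
    · rw [hi, _root_.mul_inv_rev, show d.i * d.j * d.i * (d.j⁻¹ * d.i⁻¹) = d.i * (d.j * d.i * d.j⁻¹) * d.i⁻¹ by group,
        hji, mul_neg, neg_mul, mul_inv_cancel_right]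
    · rw [hj, _root_.mul_inv_rev, show d.i * d.j * d.j * (d.j⁻¹ * d.i⁻¹) = d.i * d.j * d.i⁻¹ by group, hij]

/-- The normalizer of the Sylow subgroup: either inside it, or up to it an element of order three twisted
to its inverse by `i - j`. -/
theorem normalizer_cases (hodd : Odd (Fintype.card F)) (Q : Sylow 2 SL(2, F)) :
    ∃ d : QData (Q : Subgroup SL(2, F)),
      (∀ a : SL(2, F), (∀ q ∈ (Q : Subgroup SL(2, F)), a * q * a⁻¹ ∈ (Q : Subgroup SL(2, F))) →
        a ∈ (Q : Subgroup SL(2, F))) ∨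
      ((∀ q ∈ (Q : Subgroup SL(2, F)), q ∈ Subgroup.closure {d.i, d.j}) ∧
       (∀ u ∈ (Q : Subgroup SL(2, F)), ∀ q ∈ (Q : Subgroup SL(2, F)), u * q * u⁻¹ = q ∨ u * q * u⁻¹ = -q) ∧
       (∀ r ∈ (Q : Subgroup SL(2, F)), r⁻¹ = r ∨ r⁻¹ = -r) ∧
       ∀ a : SL(2, F), (∀ q ∈ (Q : Subgroup SL(2, F)), a * q * a⁻¹ ∈ (Q : Subgroup SL(2, F))) →
        ∀ θ : SL(2, F) →* SL(2, F), θ d.i = -d.j → θ d.j = -d.i →
          ∃ a', a' ^ 3 = 1 ∧ a'⁻¹ * a ∈ (Q : Subgroup SL(2, F)) ∧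
            (∀ q ∈ (Q : Subgroup SL(2, F)), a' * q * a'⁻¹ ∈ (Q : Subgroup SL(2, F))) ∧
            θ a' * a' ∈ (Q : Subgroup SL(2, F))) := by
  classical
  haveI : Fact (Nat.Prime 2) := ⟨Nat.prime_two⟩
  have h2 := Linear.two_ne_zero_of_odd_card hodd
  obtain ⟨k, hk, e, d, hdi, hdj⟩ := exists_qdata hodd Q
  refine ⟨d, ?_⟩
  have hN : ∀ a : SL(2, F), (∀ q ∈ (Q : Subgroup SL(2, F)), a * q * a⁻¹ ∈ (Q : Subgroup SL(2, F))) →
      a ∈ Subgroup.normalizer ((Q : Subgroup SL(2, F)) : Set SL(2, F)) := fun a ha =>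
    Subgroup.mem_normalizer_fintype ha
  have htwo : ∀ a : SL(2, F), (∀ q ∈ (Q : Subgroup SL(2, F)), a * q * a⁻¹ ∈ (Q : Subgroup SL(2, F))) →
      ∀ n, a ^ 2 ^ n = 1 → a ∈ (Q : Subgroup SL(2, F)) := by
    intro a ha n hn
    obtain ⟨j, -, hj⟩ := (Nat.dvd_prime_pow Nat.prime_two).1 (orderOf_dvd_of_pow_eq_one hn)
    have hsup := Q.3 (IsPGroup.to_sup_of_normal_left' Q.2 (IsPGroup.of_card ((Nat.card_zpowers a).trans hj))
      (Subgroup.zpowers_le.2 (hN a ha))) le_sup_left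
    exact hsup.le ((le_sup_right : Subgroup.zpowers a ≤ (Q : Subgroup SL(2, F)) ⊔ Subgroup.zpowers a)
      (Subgroup.mem_zpowers a))
  have hne : d.i * d.j ≠ d.j * d.i := by
    intro h
    rw [d.hji] at h
    have hm : ((d.i * d.j : SL(2, F)) : Matrix (Fin 2) (Fin 2) F) = 0 := by
      ext r s
      have := congrArg (fun g : SL(2, F) => (g : Matrix (Fin 2) (Fin 2) F) r s) h
      simp at this ⊢
      exact mul_left_cancel₀ h2 (by linear_combination this)
    have hd := (d.i * d.j).det_coe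
    rw [hm, Matrix.det_zero] at hd
    exact zero_ne_one hd
  have hoddfix : ∀ w : SL(2, F), ∀ N, Odd N → w ^ N = 1 → w * d.i = d.i * w → w * d.j = d.j * w → w = 1 := by
    intro w N hN' hw h1 h2'
    rcases scalar_of_commute hne h1 h2' with h | h
    · exact h
    · rw [h, hN'.neg_one_pow] at hw
      exact absurd hw (neg_one_ne_one h2)
  -- odd part
  have hdec : ∀ a : SL(2, F), ∃ a' : SL(2, F), (∃ N, Odd N ∧ a' ^ N = 1) ∧
      (∃ s, a' = a ^ s) ∧ (∃ n, (a'⁻¹ * a) ^ 2 ^ n = 1) := by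
    intro a
    obtain ⟨s, m, hm, hsm⟩ := Nat.exists_eq_two_pow_mul_odd (n := orderOf a) (orderOf_pos a).ne'
    have hc : Nat.Coprime (2 ^ s) m := Nat.Coprime.pow_left s (Nat.coprime_two_left.2 hm)
    obtain ⟨y, hy1, hy2⟩ := Nat.chineseRemainder hc 0 1
    refine ⟨a ^ y, ⟨m, hm, ?_⟩, ⟨y, rfl⟩, s, ?_⟩
    · rw [← pow_mul, ← orderOf_dvd_iff_pow_eq_one, hsm]
      exact mul_dvd_mul_right (Nat.modEq_zero_iff_dvd.1 hy1) _
    · rw [show (a ^ y)⁻¹ * a = a ^ ((1 : ℤ) - y) by rw [_root_.zpow_sub, zpow_one, zpow_natCast]; group,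
        ← zpow_natCast, ← _root_.zpow_mul, ← orderOf_dvd_iff_zpow_eq_one, hsm]
      push_cast
      rw [mul_comm]
      exact mul_dvd_mul_right (Nat.modEq_iff_dvd.1 hy2) _
  rcases eq_or_lt_of_le hk with rfl | hk2
  · right
    let ι : QuaternionGroup 2 →* SL(2, F) := (Q : Subgroup SL(2, F)).subtype.comp e.symm.toMonoidHom
    have hιi : Function.Injective ι := (Subgroup.subtype_injective _).comp e.symm.injective
    have hI : ι (a 1) = d.i := by rw [hdi]; simp [ι]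
    have hJ : ι (xa 0) = d.j := hdj.symm
    have hιQ : ∀ u, ι u ∈ (Q : Subgroup SL(2, F)) := fun u => SetLike.coe_mem _
    have hsurj : ∀ q ∈ (Q : Subgroup SL(2, F)), ∃ u, ι u = q := fun q hq => ⟨e ⟨q, hq⟩, by simp [ι]⟩
    have hz : ι (a 2) = -1 := by
      rw [show (a 2 : QuaternionGroup 2) = a 1 * a 1 by decide, map_mul, hI, d.hii]
    have hneg : ∀ u, ι (a 2 * u) = -ι u := fun u => by rw [map_mul, hz, neg_one_mul]
    refine ⟨fun q hq => ?_, fun u hu q hq => ?_, fun r hr => ?_, fun a ha θ hθi hθj => ?_⟩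
    · obtain ⟨u, rfl⟩ := hsurj q hq
      have h := qmap_eq_hom ι (MonoidHom.id _) (I := a 1) (J := xa 0) rfl rfl u
      rcases u with m | m
      · rw [show (QuaternionGroup.a m : QuaternionGroup 2) = a 1 ^ m.val by
          rw [a_one_pow, ZMod.natCast_zmod_val], map_pow, hI]
        exact pow_mem (Subgroup.subset_closure (Set.mem_insert d.i {d.j})) _
      · rw [show (xa m : QuaternionGroup 2) = xa 0 * a 1 ^ m.val by
          rw [a_one_pow, ZMod.natCast_zmod_val, xa_mul_a, zero_add], map_mul, map_pow, hI, hJ]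
        exact mul_mem (Subgroup.subset_closure (Set.mem_insert_of_mem d.i rfl)) (pow_mem (Subgroup.subset_closure (Set.mem_insert d.i {d.j})) _)
    · obtain ⟨u, rfl⟩ := hsurj u hu
      obtain ⟨q, rfl⟩ := hsurj q hq
      rw [← map_inv, ← map_mul, ← map_mul, ← hneg]
      rcases (show ∀ u q : QuaternionGroup 2, u * q * u⁻¹ = q ∨ u * q * u⁻¹ = a 2 * q by decide) u q with h | h <;>
        rw [h] <;> simp
    · obtain ⟨u, rfl⟩ := hsurj r hr
      rw [← map_inv, ← hneg]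
      rcases (show ∀ u : QuaternionGroup 2, u⁻¹ = u ∨ u⁻¹ = a 2 * u by decide) u with h | h <;> rw [h] <;> simp
    obtain ⟨a', ⟨N, hN', hN1⟩, ⟨s, hs⟩, n, hn⟩ := hdec a
    have ha' : ∀ q ∈ (Q : Subgroup SL(2, F)), a' * q * a'⁻¹ ∈ (Q : Subgroup SL(2, F)) := fun q hq =>
      (Subgroup.mem_normalizer_iff.1 (hs ▸ pow_mem (hN a ha) s) q).1 hq
    have hrest : a'⁻¹ * a ∈ (Q : Subgroup SL(2, F)) := htwo _ (fun q hq => by
      rw [show a'⁻¹ * a * q * (a'⁻¹ * a)⁻¹ = a'⁻¹ * (a * q * a⁻¹) * a' by group]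
      exact (Subgroup.mem_normalizer_iff''.1 (hs ▸ pow_mem (hN a ha) s) _).1 (ha q hq)) n hn
    obtain ⟨I, hIe⟩ := hsurj _ (ha' _ (hιQ (QuaternionGroup.a 1)))
    obtain ⟨J, hJe⟩ := hsurj _ (ha' _ (hιQ (xa 0)))
    have hφ : ∀ u, a' * ι u * a'⁻¹ = ι (qmap I J u) := fun u =>
      qmap_eq_hom ι (MulAut.conj a').toMonoidHom hIe.symm hJe.symm u
    have hII : I * I = QuaternionGroup.a 2 := hιi (by
      rw [map_mul, hIe, hI, conj_mul, d.hii, hz]; simp)
    have hJJ : J * J = QuaternionGroup.a 2 := hιi (by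
      rw [map_mul, hJe, hJ, conj_mul, d.hjj, hz]; simp)
    have hJI : J * I = QuaternionGroup.a 2 * (I * J) := hιi (by
      rw [hneg, map_mul, map_mul, hIe, hJe, hI, hJ, conj_mul, conj_mul, d.hji]; simp)
    have haxes : ∀ (w : SL(2, F)) (U V : QuaternionGroup 2), w * d.i * w⁻¹ = ι U → w * d.j * w⁻¹ = ι V →
        (U = QuaternionGroup.a 1 ∨ U = QuaternionGroup.a 2 * QuaternionGroup.a 1) →
        (V = xa 0 ∨ V = QuaternionGroup.a 2 * xa 0) → w ∈ (Q : Subgroup SL(2, F)) := by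
      intro w U V hU hV hU' hV'
      refine axes_imp_mem d h2 ?_ ?_
      · rcases hU' with rfl | rfl
        · exact Or.inl (hU.trans hI)
        · exact Or.inr (by rw [hU, hneg, hI])
      · rcases hV' with rfl | rfl
        · exact Or.inl (hV.trans hJ)
        · exact Or.inr (by rw [hV, hneg, hJ])
    have hoddQ : ∀ w : SL(2, F), ∀ M, Odd M → w ^ M = 1 → w ∈ (Q : Subgroup SL(2, F)) → w = 1 := by
      intro w M hM hw hwQ
      obtain ⟨t, ht⟩ := Q.2 ⟨w, hwQ⟩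
      have := pow_gcd_eq_one.2 ⟨hw, (congrArg Subtype.val ht : w ^ 2 ^ t = 1)⟩
      rwa [Nat.Coprime.gcd_eq_one (Nat.Coprime.pow_right t (Nat.coprime_two_right.2 hM)), pow_one] at this
    have hp : ∀ t, (a' ^ t) ^ N = 1 := fun t => by rw [← pow_mul, mul_comm, pow_mul, hN1, one_pow]
    have hsq : ∀ v, a' ^ 2 * v * (a' ^ 2)⁻¹ = a' * (a' * v * a'⁻¹) * a'⁻¹ := fun v => by
      simp only [pow_succ, pow_zero, one_mul, _root_.mul_inv_rev, mul_assoc]
    have hcu : ∀ v, a' ^ 3 * v * (a' ^ 3)⁻¹ = a' * (a' * (a' * v * a'⁻¹) * a'⁻¹) * a'⁻¹ := fun v => by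
      simp only [pow_succ, pow_zero, one_mul, _root_.mul_inv_rev, mul_assoc]
    have hIi : a' * d.i * a'⁻¹ = ι I := by rw [← hI, hIe]
    have hJj : a' * d.j * a'⁻¹ = ι J := by rw [← hJ, hJe]
    have hcube : a' ^ 3 = 1 := by
      rcases qmap_axes I J hII hJJ hJI with ⟨h1, h1'⟩ | ⟨h1, h1'⟩
      · have h := hoddQ _ N hN' (hp 2) (haxes _ _ _ (by rw [hsq, hIi, hφ]) (by rw [hsq, hJj, hφ]) h1 h1')
        have := pow_gcd_eq_one.2 ⟨hN1, h⟩
        rw [Nat.Coprime.gcd_eq_one (Nat.coprime_two_right.2 hN'), pow_one] at this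
        rw [this, one_pow]
      · exact hoddQ _ N hN' (hp 3)
          (haxes _ _ _ (by rw [hcu, hIi, hφ, hφ]) (by rw [hcu, hJj, hφ, hφ]) h1 h1')
    have h3 : ∀ u, qmap I J (qmap I J (qmap I J u)) = u := fun u => hιi (by
      rw [← hφ, ← hφ, ← hφ, ← hcu, hcube]; simp)
    have hτ : ∀ u, θ (ι u) = ι (qmap (QuaternionGroup.a 2 * xa 0) (QuaternionGroup.a 2 * QuaternionGroup.a 1) u) :=
      fun u => qmap_eq_hom ι θ (by rw [hI, hθi, hneg, hJ]) (by rw [hJ, hθj, hneg, hI]) u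
    have hθθi : θ (θ d.i) = d.i := by
      have e1 : θ d.i = ι (QuaternionGroup.a 2 * xa 0) := by rw [hθi, hneg, hJ]
      rw [e1, hτ, show qmap (QuaternionGroup.a 2 * xa 0) (QuaternionGroup.a 2 * QuaternionGroup.a 1)
        (QuaternionGroup.a 2 * xa 0) = QuaternionGroup.a 1 by decide, hI]
    have hθθj : θ (θ d.j) = d.j := by
      have e1 : θ d.j = ι (QuaternionGroup.a 2 * QuaternionGroup.a 1) := by rw [hθj, hneg, hI]
      rw [e1, hτ, show qmap (QuaternionGroup.a 2 * xa 0) (QuaternionGroup.a 2 * QuaternionGroup.a 1)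
        (QuaternionGroup.a 2 * QuaternionGroup.a 1) = xa 0 by decide, hJ]
    have htw := qmap_twist I J hII hJJ hJI
      (by have := h3 (QuaternionGroup.a 1); rwa [show qmap I J (QuaternionGroup.a 1) = I by
        show I ^ (1 : ZMod (2 * 2)).val = I; rw [show (1 : ZMod (2 * 2)).val = 1 by decide, pow_one]] at this)
      (by have := h3 (xa 0); rwa [show qmap I J (xa 0) = J by
        show J * I ^ (0 : ZMod (2 * 2)).val = J; simp] at this)
    refine ⟨a', hcube, hrest, ha', haxes _ _ _ ?_ ?_ htw.1 htw.2⟩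
    · rw [show θ a' * a' * d.i * (θ a' * a')⁻¹ = θ a' * (a' * d.i * a'⁻¹) * (θ a')⁻¹ by group, hIi]
      have key : ∀ u, θ a' * ι u * (θ a')⁻¹ = ι (qmap (QuaternionGroup.a 2 * xa 0) (QuaternionGroup.a 2 * QuaternionGroup.a 1)
          (qmap I J (qmap (QuaternionGroup.a 2 * xa 0) (QuaternionGroup.a 2 * QuaternionGroup.a 1) u))) := by
        intro u
        have hu : θ (θ (ι u)) = ι u := by
          have h' := qmap_eq_hom ι (θ.comp θ) (I := QuaternionGroup.a 1) (J := xa 0)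
            (by rw [MonoidHom.comp_apply, hI, hθθi]) (by rw [MonoidHom.comp_apply, hJ, hθθj]) u
          rw [MonoidHom.comp_apply] at h'
          exact h'.trans (congrArg ι ((show ∀ u, qmap (QuaternionGroup.a 1) (xa 0) u = u by decide) u))
        rw [← hτ, ← hφ, map_mul, map_mul, map_inv, ← hτ, hu]
      exact key I
    · rw [show θ a' * a' * d.j * (θ a' * a')⁻¹ = θ a' * (a' * d.j * a'⁻¹) * (θ a')⁻¹ by group, hJj]
      have key : ∀ u, θ a' * ι u * (θ a')⁻¹ = ι (qmap (QuaternionGroup.a 2 * xa 0) (QuaternionGroup.a 2 * QuaternionGroup.a 1)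
          (qmap I J (qmap (QuaternionGroup.a 2 * xa 0) (QuaternionGroup.a 2 * QuaternionGroup.a 1) u))) := by
        intro u
        have hu : θ (θ (ι u)) = ι u := by
          have h' := qmap_eq_hom ι (θ.comp θ) (I := QuaternionGroup.a 1) (J := xa 0)
            (by rw [MonoidHom.comp_apply, hI, hθθi]) (by rw [MonoidHom.comp_apply, hJ, hθθj]) u
          rw [MonoidHom.comp_apply] at h'
          exact h'.trans (congrArg ι ((show ∀ u, qmap (QuaternionGroup.a 1) (xa 0) u = u by decide) u))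
        rw [← hτ, ← hφ, map_mul, map_mul, map_inv, ← hτ, hu]
      exact key J
  · left
    intro a ha
    obtain ⟨a', ⟨N, hN', hN1⟩, ⟨s, hs⟩, n, hn⟩ := hdec a
    have hmem : a' ∈ Subgroup.normalizer ((Q : Subgroup SL(2, F)) : Set SL(2, F)) := hs ▸ pow_mem (hN a ha) s
    have hA : IsPGroup 2 (MulAut (Q : Subgroup SL(2, F))) :=
      (FusionSys.isPGroup_mulAut_quaternion k (by omega)).of_equiv (MulAut.congr e).symm
    set α := (Q : Subgroup SL(2, F)).normalizerMonoidHom ⟨a', hmem⟩ with hα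
    obtain ⟨t, ht⟩ := hA α
    have hαN : α ^ N = 1 := by
      rw [hα, ← map_pow, show (⟨a', hmem⟩ : Subgroup.normalizer ((Q : Subgroup SL(2, F)) : Set SL(2, F))) ^ N = 1 from
        Subtype.ext hN1, map_one]
    have hα1 : α = 1 := by
      have := pow_gcd_eq_one.2 ⟨hαN, ht⟩
      rwa [Nat.Coprime.gcd_eq_one (Nat.Coprime.pow_right t (Nat.coprime_two_right.2 hN')), pow_one] at this
    have hfix : ∀ q ∈ (Q : Subgroup SL(2, F)), a' * q = q * a' := fun q hq => by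
      have := congrArg (fun f : MulAut (Q : Subgroup SL(2, F)) => ((f ⟨q, hq⟩ : (Q : Subgroup SL(2, F))) : SL(2, F))) hα1
      simp only [hα, MulAut.one_apply] at this
      change a' * q * a'⁻¹ = q at this
      exact mul_inv_eq_iff_eq_mul.1 this
    have ha1 : a' = 1 := hoddfix a' N hN' hN1 (hfix _ d.hi) (hfix _ d.hj)
    exact htwo a ha n (by simpa [ha1] using hn)

end Cfsg.Agent.FusionSimple.SpF
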